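set_option autoImplicit false
namespace Cfsg.Agent.Lib.Helper6.TCD.Y422E
noncomputable def NC (i : Nat) : Nat := Nat.land (Nat.shiftRight 0xd800000000000000010003500000000000000008000d000000000000000030003300000000000000018000c400000000000000060002f00000000000000010000bc00000000000000060002d00000000000000014000b400000000000000050002b0000000000000000c000ac00000000000000050002900000000000000010000a0000000000000000500026000000000000000100009400000000000000020002500000000000000014000900000000000000004000230000000000000000c000880000000000000004000210000000000000000c0008000000000000000060001f0000000000000000c0007800000000000000060001c000000000000000040007000000000000000060001a0000000000000001800064000000000000000200019000000000000000180005c0000000000000002000170000000000000000c000580000000000000006000150000000000000000c000500000000000000004000130000000000000000c00044000000000000000400010000000000000000000004000000000000000000000f000000000000000100003400000000000000010000d000000000000000040003000000000000000040000b000000000000000080002c00000000000000020000a0000000000000000c00024000000000000000300008000000000000000180001c0000000000000006000050000000000000001400014000000000000000600004000000000000000100001000000000000000030000300000000000000008000080000000000000001000010000000000000000000000000000000000000000000 (Nat.mul 86 (Nat.land i 511))) 77371252455336267181195263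
end Cfsg.Agent.Lib.Helper6.TCD.Y422E
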