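set_option autoImplicit false
namespace Cfsg.Agent.Lib.Helper6.TCD.Y422E
noncomputable def NH (i : Nat) : Nat := Nat.land (Nat.shiftRight 0x3100000000062000000000c400000000188000000003100000000062000000000c400000000188000000003100000000062000000000c400000000188000000003100000000062000000000c400000000188000000003100000000062000000000c400000000188000000003100000000062000000000c400000000188000000003100000000062000000000c400000000188000000003100000000062000000000c400000000188000000003100000000062000000000c400000000188000000003100000000062000000000c400000000188000000003100000000062000000000c400000000188000000003100000000062000000000c400000000188000000003100000000062000000000c400000000188000000003100000000062000000000c40000000018800000 (Nat.mul 43 (Nat.land i 1023))) 8796093022207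
end Cfsg.Agent.Lib.Helper6.TCD.Y422E
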