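set_option autoImplicit false
namespace Cfsg.Agent.Lib.Helper6.TCD.Y422E
noncomputable def SC (i : Nat) : Nat := Nat.land (Nat.shiftRight 0x1200800040020000e00800030020000a00800020020000000400070020001a008000600200016008000500200000004000000000024008000880200020008000780200000004000000000009008000a802000280080009802000000040000000000150080002c0200000004000bc020002d0080000000000230080006c020001100800000010002f0080000004000290080008c020001b008000440200000000000b0020000000400094020001f0080005c020000d008000000100000010000b402000290080008c020001b0080004402000000000000001000000000009c020002100800064020000f008000c00200000004000ac02000000100008402000190080003c020000000000000000002600800000010001d00800054020000b008000c00200000004000ac02000270080000004000190080003c020002e00800000000000000400000000001f0080005c020000d008000c00200000004000ac02000270080008402000000100003c020002e0080000000000000040009402000000100005c020000d00800090020002200800000000001e00800000010001300800024020003000800000010002b0080009c0200021008000640200000010000b802000000000000001000250080007c020000001000034020002a008000a0020000000000000010000000000054020000b008000b802000000000000001000250080007c020001700800000040002a008000a0020000000000000010001d00800000040000b00800000010002f008000b402000000000008c020001b00800044020002a008000a0020000000000000010001d00800054020000001000000010002f008000b402000000000008c020000001000044020000000000068020001800800058020001400800000010000700800000010002f008000b402000000000008c020001b008000000400000004000bc020002d0080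00a402000000100006c020001100800000000002200800080020001e008000000100000000000240200000004000bc020002d008000a402000000100006c020000001000000000002200800080020001e008000000100013008000000400000000000a0020002600800000010000000000054020000b00800000010002f008000b402000290080008c0200000010000440200000000000a00200026008000000100000000000540200000010000b8020002c0080000001000000000007c0200017008000340200000000000a0020002600800000010001d00800000040000b008000b8020002c0080000001000000000007c020001700800000040001200800040020000000000030020000a00800020020000000400048020000001000038020000c00800028020000800800000010002e008000b0020000000400000000001f00800000040000d00800070020001a00800000000001600800050020000000400000000001c008000000400018008000580200014008000000100000000000b8020002c00800000010002500800000040001700800034020002400800088020000000000078020000000400000000000900800090020000001000080020001e00800000010000000000024020002a008000a0020000000000000010000000000054020000b008000a802000000100009802000000040000000000150080002c0200000004000bc020002d0080000000000230080006c0200011008000000100000010000b402000000000008c020001b00800044020000000000000010002b0080009c020002100800064020000f00800000010002f0080000004000290080008c020001b00800044020000000000000000000000400094020001f0080005c020000d0080000000000280080000000000000040007402000150080002c02000240080008802000200080000000000000040004c020000900800070020001a0080006002000160080000000000000040001c020001200800040020000e00800030020000a008000000000000004000d80200035008000d00200033008000c802000310080000000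 (Nat.mul 30 (Nat.land i 1023))) 1073741823
end Cfsg.Agent.Lib.Helper6.TCD.Y422E
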