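set_option autoImplicit false
namespace Cfsg.Agent.Lib.Helper6.TCD.Y422E
noncomputable def WDL0 (i : Nat) : Nat := Nat.land (Nat.shiftRight 0x505004000404040040400400030304003030040002020400202004010101061010100600006602000055020000440200003302000022020000110200000002 (Nat.mul 32 (Nat.land i 15))) 4294967295
noncomputable def WDL1 (i : Nat) : Nat := Nat.land (Nat.shiftRight 0x424204232323063232320600161604006161040015150400515104001414040041410400131304003131041212120621212106000606040060600400050504 (Nat.mul 32 (Nat.land i 15))) 4294967295
noncomputable def WDP0N0 (i : Nat) : Nat := Bool.rec (WDL0 i) (WDL1 i) (Nat.ble 16 i)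
noncomputable def WDL2 (i : Nat) : Nat := Nat.land (Nat.shiftRight 0x656504004646040064640445454506545454063636360663636306003535040053530434343406434343060026260400626204002525040052520400242404 (Nat.mul 32 (Nat.land i 15))) 4294967295
noncomputable def WDL3 (i : Nat) : Nat := Nat.land (Nat.shiftRight 0x601000005010000040100000301000002010000010100565604 (Nat.mul 32 (Nat.land i 15))) 4294967295
noncomputable def WDP0N1 (i : Nat) : Nat := Bool.rec (WDL2 i) (WDL3 i) (Nat.ble 48 i)
noncomputable def WD (i : Nat) : Nat := Bool.rec (WDP0N0 i) (WDP0N1 i) (Nat.ble 32 i)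
end Cfsg.Agent.Lib.Helper6.TCD.Y422E
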